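import Mathlib
import Groth.Agent.Lib.Helper7.Quiet.Ring

/-!
# Root towers: composition, polynomial rings, Frobenius of polynomial rings (helper16)
-/

set_option autoImplicit false

namespace Groth.Agent.Lib.Helper16.QuietFrob

open CategoryTheory Limits Polynomial Quiet Groth.Agent.Lib.Helper7.QuietRing

universe u

variable {p : ℕ}

/-- Pre-composing a root tower with a bijection gives a root tower. -/
theorem IsRootTowerHom.bijective_comp (n : ℕ) {A' A B : Type u} [CommRing A'] [CommRing A]
    [CommRing B] (ε : A' →+* A) (φ : A →+* B) (hε : Function.Bijective ε)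
    (h : IsRootTowerHom p n φ) : IsRootTowerHom p n (φ.comp ε) :=
  IsRootTowerHom.of_equiv n φ (φ.comp ε) (RingEquiv.ofBijective ε hε).symm (RingEquiv.refl B)
    (fun x => by
      simp only [RingHom.comp_apply, RingEquiv.refl_apply]
      congr 1
      exact (RingEquiv.ofBijective ε hε).apply_symm_apply x) h

/-- Composition of root towers. -/
theorem IsRootTowerHom.comp : ∀ (a b : ℕ) {A B C : Type u} [CommRing A] [CommRing B] [CommRing C]
    (φ : A →+* B) (ψ : B →+* C), IsRootTowerHom p a φ → IsRootTowerHom p b ψ →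
    IsRootTowerHom p (a + b) (ψ.comp φ)
  | 0, b, A, B, C, _, _, _, φ, ψ, hφ, hψ => by
    rw [isRootTowerHom_zero_iff] at hφ
    rw [Nat.zero_add]
    exact IsRootTowerHom.bijective_comp b φ ψ hφ hψ
  | a + 1, b, A, B, C, _, _, _, φ, ψ, hφ, hψ => by
    rw [isRootTowerHom_succ_iff] at hφ
    obtain ⟨x, χ, hχ, tw⟩ := hφ
    have h1 := IsRootTowerHom.comp a b χ ψ tw hψ
    rw [show a + 1 + b = (a + b) + 1 by omega, isRootTowerHom_succ_iff]
    exact ⟨x, ψ.comp χ, by rw [RingHom.comp_assoc, hχ], h1⟩

/-- `X ↦ X ^ p` on `R[X]` is an elementary extraction of a `p`-th root (of `X`). -/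
theorem isRootTowerHom_expand (R : Type u) [CommRing R] :
    IsRootTowerHom p 1 ((expand R p : R[X] →ₐ[R] R[X]) : R[X] →+* R[X]) := by
  rw [isRootTowerHom_succ_iff]
  have h0 : (X ^ p - C (X : R[X]) : R[X][X]).eval₂
      ((expand R p : R[X] →ₐ[R] R[X]) : R[X] →+* R[X]) (X : R[X]) = 0 := by
    simp only [eval₂_sub, eval₂_pow, eval₂_X, eval₂_C]
    change X ^ p - expand R p X = 0
    rw [expand_X, sub_self]
  let χ : RootRing p R[X] (X : R[X]) →+* R[X] := AdjoinRoot.lift _ X h0
  refine ⟨X, χ, ?_, ?_⟩
  · exact RingHom.ext fun x => AdjoinRoot.lift_of h0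
  · rw [isRootTowerHom_zero_iff]
    have hroot : (AdjoinRoot.root (X ^ p - C (X : R[X]) : R[X][X])) ^ p =
        AdjoinRoot.of (X ^ p - C (X : R[X]) : R[X][X]) X := by
      have := AdjoinRoot.eval₂_root (X ^ p - C (X : R[X]) : R[X][X])
      simpa [sub_eq_zero] using this
    let ι : R[X] →+* RootRing p R[X] (X : R[X]) :=
      eval₂RingHom ((AdjoinRoot.of (X ^ p - C (X : R[X]) : R[X][X])).comp C)
        (AdjoinRoot.root _)
    have hχι : ∀ f : R[X], χ (ι f) = f := by
      intro f
      induction f using Polynomial.induction_on' with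
      | add f g hf hg => rw [map_add, map_add, hf, hg]
      | monomial n a =>
        simp only [ι, coe_eval₂RingHom, eval₂_monomial, map_mul, map_pow, RingHom.comp_apply]
        rw [show χ (AdjoinRoot.of _ (C a)) = expand R p (C a) from AdjoinRoot.lift_of h0,
          show χ (AdjoinRoot.root _) = X from AdjoinRoot.lift_root h0, expand_C,
          C_mul_X_pow_eq_monomial]
    have hιχ : ∀ y : RootRing p R[X] (X : R[X]), ι (χ y) = y := by
      intro y
      have h2 : ι.comp χ = RingHom.id _ := by
        apply AdjoinRoot.ringHom_ext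
        · refine RingHom.ext fun f => ?_
          simp only [RingHom.comp_apply, RingHom.id_apply]
          rw [show χ (AdjoinRoot.of _ f) = expand R p f from AdjoinRoot.lift_of h0]
          induction f using Polynomial.induction_on' with
          | add f g hf hg => rw [map_add, map_add, hf, hg, map_add]
          | monomial n a =>
            rw [expand_monomial]
            simp only [ι, coe_eval₂RingHom, eval₂_monomial, RingHom.comp_apply]
            rw [mul_comm n p, pow_mul, hroot, ← map_pow, ← map_mul, C_mul_X_pow_eq_monomial]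
        · simp only [RingHom.comp_apply, RingHom.id_apply]
          rw [show χ (AdjoinRoot.root _) = X from AdjoinRoot.lift_root h0]
          simp [ι]
      exact congrFun (congrArg DFunLike.coe h2) y
    exact ⟨fun a b hab => by rw [← hιχ a, ← hιχ b, hab], fun f => ⟨ι f, hχι f⟩⟩

/-- The polynomial ring functor turns a ring map into a cobase change. -/
theorem isPushout_polynomial {R S : Type u} [CommRing R] [CommRing S] (φ : R →+* S) :
    IsPushout (CommRingCat.ofHom φ) (CommRingCat.ofHom (C : R →+* R[X]))
      (CommRingCat.ofHom (C : S →+* S[X])) (CommRingCat.ofHom (mapRingHom φ)) := by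
  refine ⟨⟨?_⟩, ⟨PushoutCocone.isColimitAux' _ (fun s => ?_)⟩⟩
  · ext x
    simp
  · have hs : ∀ x : R, s.inl.hom (φ x) = s.inr.hom (C x) :=
      fun x => congr($(s.condition).hom x)
    refine ⟨CommRingCat.ofHom (eval₂RingHom s.inl.hom (s.inr.hom X)), ?_, ?_, ?_⟩
    · apply CommRingCat.hom_ext
      refine RingHom.ext fun x => ?_
      change eval₂RingHom s.inl.hom (s.inr.hom X) (C x) = s.inl.hom x
      rw [coe_eval₂RingHom, eval₂_C]
    · apply CommRingCat.hom_ext
      apply Polynomial.ringHom_ext
      · intro a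
        change eval₂RingHom s.inl.hom (s.inr.hom X) (mapRingHom φ (C a)) = s.inr.hom (C a)
        rw [coe_mapRingHom, map_C, coe_eval₂RingHom, eval₂_C, hs]
      · change eval₂RingHom s.inl.hom (s.inr.hom X) (mapRingHom φ X) = s.inr.hom X
        rw [coe_mapRingHom, map_X, coe_eval₂RingHom, eval₂_X]
    · intro m h1 h2
      have h1' : ∀ x : S, m.hom (C x) = s.inl.hom x := fun x => congr($(h1).hom x)
      have h2' : ∀ x : R[X], m.hom (mapRingHom φ x) = s.inr.hom x := fun x => congr($(h2).hom x)
      apply CommRingCat.hom_ext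
      apply Polynomial.ringHom_ext
      · intro a
        change m.hom (C a) = eval₂RingHom s.inl.hom (s.inr.hom X) (C a)
        rw [coe_eval₂RingHom, eval₂_C, h1']
      · change m.hom X = eval₂RingHom s.inl.hom (s.inr.hom X) X
        have := h2' X
        rw [coe_mapRingHom, map_X] at this
        rw [coe_eval₂RingHom, eval₂_X, this]

theorem isRootTowerHom_mapRingHom (n : ℕ) {R S : Type u} [CommRing R] [CommRing S] (φ : R →+* S)
    (h : IsRootTowerHom p n φ) : IsRootTowerHom p n (mapRingHom φ) :=
  IsRootTowerHom.of_isPushout n (CommRingCat.ofHom φ) (CommRingCat.ofHom (C : R →+* R[X]))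
    (CommRingCat.ofHom (C : S →+* S[X])) (CommRingCat.ofHom (mapRingHom φ))
    (isPushout_polynomial φ) h

/-- Frobenius of a polynomial ring is a root tower one step longer than that of the base. -/
theorem isRootTowerHom_frobenius_polynomial [Fact p.Prime] (n : ℕ) (R : Type u) [CommRing R]
    [CharP R p] (h : IsRootTowerHom p n (frobenius R p)) :
    IsRootTowerHom p (n + 1) (frobenius R[X] p) := by
  have h1 := IsRootTowerHom.comp n 1 (mapRingHom (frobenius R p))
    ((expand R p : R[X] →ₐ[R] R[X]) : R[X] →+* R[X])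
    (isRootTowerHom_mapRingHom n _ h) (isRootTowerHom_expand R)
  convert h1 using 1
  refine RingHom.ext fun f => ?_
  simp only [RingHom.comp_apply, coe_mapRingHom, frobenius_def]
  change f ^ p = expand R p (map (frobenius R p) f)
  rw [← map_expand, map_frobenius_expand]

/-- Frobenius of `k[x₁..xₙ]`, `k` perfect, is a root tower of length `n`. -/
theorem isRootTowerHom_frobenius_mvPolynomial [Fact p.Prime] (k : Type u) [CommRing k]
    [CharP k p] [PerfectRing k p] : ∀ n : ℕ,
    IsRootTowerHom p n (frobenius (MvPolynomial (Fin n) k) p)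
  | 0 => by
    have h0 : IsRootTowerHom p 0 (frobenius k p) :=
      (isRootTowerHom_zero_iff _).mpr (bijective_frobenius k p)
    refine IsRootTowerHom.of_equiv 0 (frobenius k p) _
      (MvPolynomial.isEmptyAlgEquiv k (Fin 0)).symm.toRingEquiv
      (MvPolynomial.isEmptyAlgEquiv k (Fin 0)).symm.toRingEquiv (fun x => ?_) h0
    simp only [frobenius_def, map_pow]
  | n + 1 => by
    have ih := isRootTowerHom_frobenius_mvPolynomial k n
    have h1 := isRootTowerHom_frobenius_polynomial n (MvPolynomial (Fin n) k) ih
    refine IsRootTowerHom.of_equiv (n + 1) (frobenius (Polynomial (MvPolynomial (Fin n) k)) p) _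
      (MvPolynomial.finSuccEquiv k n).symm.toRingEquiv
      (MvPolynomial.finSuccEquiv k n).symm.toRingEquiv (fun x => ?_) h1
    simp only [frobenius_def, map_pow]

end Groth.Agent.Lib.Helper16.QuietFrob
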