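import Mathlib
import Groth.Agent.Lib.Helper16.RelFrob.Etale
import Groth.Agent.Lib.Helper16.Quiet.Tower

/-!
# Frobenius of an étale algebra is the cobase change of Frobenius of the base (helper16)
-/

set_option autoImplicit false

namespace Groth.Agent.Lib.Helper16.QuietFrob

open CategoryTheory Limits FrobAlg TensorProduct Groth.Agent.Lib.Helper7.QuietRing

universe u

theorem isPushout_frobenius_of_etale (p : ℕ) [Fact p.Prime] (A B : Type u) [CommRing A]
    [CommRing B] [CharP A p] [CharP B p] [Algebra A B] [Algebra.Etale A B] :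
    IsPushout (CommRingCat.ofHom (frobenius A p)) (CommRingCat.ofHom (algebraMap A B))
      (CommRingCat.ofHom (algebraMap A B)) (CommRingCat.ofHom (frobenius B p)) := by
  have h0 := CommRingCat.isPushout_tensorProduct A B (Twist p A)
  have hbij := Groth.Agent.Lib.Helper16.RelFrob.bijective_of_etale p A B
  let e₄ : (B ⊗[A] Twist p A) ≃+* B := RingEquiv.ofBijective (relFrob p A B) hbij
  have h1 : IsPushout (CommRingCat.ofHom (algebraMap A B)) (CommRingCat.ofHom (frobenius A p))
      (CommRingCat.ofHom (frobenius B p)) (CommRingCat.ofHom (algebraMap A B)) := by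
    refine h0.of_iso (Iso.refl _) (Iso.refl _) (toTwist p A).symm.toCommRingCatIso
      e₄.toCommRingCatIso ?_ ?_ ?_ ?_
    · simp
    · apply CommRingCat.hom_ext
      refine RingHom.ext fun a => ?_
      change (toTwist p A).symm (algebraMap A (Twist p A) a) = frobenius A p a
      rw [algebraMap_twist, RingEquiv.symm_apply_apply, frobenius_def]
    · apply CommRingCat.hom_ext
      refine RingHom.ext fun b => ?_
      change relFrob p A B (b ⊗ₜ[A] (1 : Twist p A)) = frobenius B p b
      rw [Groth.Agent.Lib.Helper16.RelFrob.relFrob_tmul, map_one, map_one, mul_one, frobenius_def]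
    · apply CommRingCat.hom_ext
      refine RingHom.ext fun a => ?_
      change relFrob p A B ((1 : B) ⊗ₜ[A] a) = algebraMap A B ((toTwist p A).symm a)
      rw [Groth.Agent.Lib.Helper16.RelFrob.relFrob_tmul, one_pow, one_mul]
  exact h1.flip

/-- If Frobenius of `A` is a root tower, so is Frobenius of every étale `A`-algebra. -/
theorem isRootTowerHom_frobenius_of_etale (p : ℕ) [Fact p.Prime] (n : ℕ) (A B : Type u)
    [CommRing A] [CommRing B] [CharP A p] [CharP B p] [Algebra A B] [Algebra.Etale A B]
    (h : IsRootTowerHom p n (frobenius A p)) : IsRootTowerHom p n (frobenius B p) :=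
  IsRootTowerHom.of_isPushout n _ _ _ _ (isPushout_frobenius_of_etale p A B) h

end Groth.Agent.Lib.Helper16.QuietFrob
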