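import Mathlib
import Groth.Prelude.Def_Frob
import Groth.Agent.Lib.Helper16.RelFrob.Smooth
import Groth.Agent.Lib.Helper16.Quiet.EtalePushout
import Groth.Agent.Lib.Helper7.Quiet.BaseChange

/-!
# Frobenius of a smooth algebra over a perfect field: faithfully flat, extraction of `p`-th roots
(helper16)
-/

set_option autoImplicit false
set_option linter.style.haveILetI false
set_option linter.unusedSectionVars false

namespace Groth.Agent.Lib.Helper16.QuietFrob

open CategoryTheory Limits AlgebraicGeometry FrobAlg TensorProduct Quiet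
  Groth.Agent.Lib.Helper7.QuietRing

universe u

/-- Frobenius of a standard smooth algebra over a perfect field is a root tower. -/
theorem exists_isRootTowerHom_frobenius_of_isStandardSmooth (p : ℕ) [Fact p.Prime]
    (k : Type u) [Field k] [CharP k p] [PerfectRing k p] (B : Type u) [CommRing B] [Algebra k B]
    [CharP B p] [Algebra.IsStandardSmooth k B] : ∃ n, IsRootTowerHom p n (frobenius B p) := by
  obtain ⟨ι, σ, _, _, ⟨P⟩⟩ := (inferInstance : Algebra.IsStandardSmooth k B)
  haveI : Algebra.IsStandardSmoothOfRelativeDimension P.dimension k B :=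
    ⟨_, _, _, inferInstance, P, rfl⟩
  obtain ⟨g, hg⟩ :=
    Algebra.IsStandardSmoothOfRelativeDimension.exists_etale_mvPolynomial P.dimension k B
  algebraize [g.toRingHom]
  haveI : IsScalarTower k (MvPolynomial (Fin P.dimension) k) B :=
    IsScalarTower.of_algebraMap_eq (fun a => (g.commutes a).symm)
  haveI hch : CharP (MvPolynomial (Fin P.dimension) k) p := inferInstance
  exact ⟨P.dimension, isRootTowerHom_frobenius_of_etale p _ (MvPolynomial (Fin P.dimension) k) B
    (isRootTowerHom_frobenius_mvPolynomial k _)⟩

/-- On `Spec B` the absolute Frobenius is `Spec` of the ring Frobenius. -/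
theorem frob_Spec (p : ℕ) [Fact p.Prime] (B : CommRingCat.{u}) [CharP B p] :
    FrobSch.frob (Spec B) p = Spec.map (CommRingCat.ofHom (frobenius B p)) := by
  apply ext_of_isAffine
  rw [← cancel_epi (Scheme.ΓSpecIso B).inv, ← Scheme.ΓSpecIso_inv_naturality]
  ext s
  simp only [CommRingCat.hom_comp, RingHom.coe_comp, Function.comp_apply, CommRingCat.hom_ofHom]
  rw [FrobSch.frob_appTop, frobenius_def, map_pow]
  rfl

/-- Local form: Frobenius of a localisation `A[1/g]` that is standard smooth is a root tower, and
hence so is the `p`-th power map on sections over `D(g)`. -/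
theorem exists_isRootTowerHom_frob_app (p : ℕ) [Fact p.Prime]
    (k : Type u) [Field k] [CharP k p] [PerfectRing k p] (R : CommRingCat.{u}) [Algebra k R]
    [CharP R p] (g : R) [Nontrivial (Localization.Away g)]
    [Algebra.IsStandardSmooth k (Localization.Away g)] :
    ∃ n, IsRootTowerHom p n
      ((FrobSch.frob (Spec R) p).app (PrimeSpectrum.basicOpen g)).hom := by
  haveI : CharP (Localization.Away g) p :=
    Groth.Agent.Lib.Helper16.RelFrob.charP_of_nontrivial p R (Localization.Away g)
  obtain ⟨n, hn⟩ := exists_isRootTowerHom_frobenius_of_isStandardSmooth p k (Localization.Away g)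
  refine ⟨n, ?_⟩
  let e : Localization.Away g ≃ₐ[R] Γ(Spec R, PrimeSpectrum.basicOpen g) :=
    IsLocalization.algEquiv (Submonoid.powers g) (Localization.Away g)
      Γ(Spec R, PrimeSpectrum.basicOpen g)
  refine IsRootTowerHom.of_equiv n (frobenius (Localization.Away g) p) _ e.toRingEquiv
    e.toRingEquiv (fun x => ?_) hn
  change (FrobSch.frob (Spec R) p).app (PrimeSpectrum.basicOpen g) (e x) = e (x ^ p)
  rw [FrobSch.frob_app, map_pow]

/-- The absolute Frobenius of `Spec` of a smooth algebra over a perfect field is an extraction of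
`p`-th roots. -/
theorem isPthRoot_frob_of_smooth (p : ℕ) [Fact p.Prime]
    (k : Type u) [Field k] [CharP k p] [PerfectRing k p] (R : CommRingCat.{u}) [Algebra k R]
    [CharP R p] [Algebra.Smooth k R] : IsPthRoot p (FrobSch.frob (Spec R) p) := by
  rw [isPthRoot_iff]
  intro x
  have hx : (x : PrimeSpectrum R).asIdeal.IsPrime := (x : PrimeSpectrum R).isPrime
  obtain ⟨g, hg, hstd⟩ :=
    Algebra.IsSmoothAt.exists_notMem_isStandardSmooth k (x : PrimeSpectrum R).asIdeal
  haveI : Nontrivial (Localization.Away g) := by
    rw [← not_subsingleton_iff_nontrivial,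
      IsLocalization.subsingleton_iff (M := Submonoid.powers g)]
    rintro ⟨n, hn⟩
    exact hg (hx.mem_of_pow_mem n (by simp only [hn, Submodule.zero_mem]))
  obtain ⟨n, hn⟩ := exists_isRootTowerHom_frob_app p k R g
  exact ⟨PrimeSpectrum.basicOpen g, IsAffineOpen.Spec_basicOpen g, hg,
    IsAffineOpen.Spec_basicOpen g, n, hn⟩

/-- Frobenius of a smooth algebra over a field of characteristic `p` is flat. -/
theorem flat_frobenius_of_smooth (p : ℕ) [Fact p.Prime]
    (k : Type u) [Field k] [CharP k p] (A : Type u) [CommRing A] [Algebra k A]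
    [CharP A p] [Algebra.Smooth k A] : (frobenius A p).Flat := by
  have h1 : (relFrob p k A).Flat := Groth.Agent.Lib.Helper16.RelFrob.flat_relFrob_of_smooth p k A
  have h2 : (algebraMap A (A ⊗[k] Twist p k)).Flat := RingHom.flat_algebraMap_iff.mpr inferInstance
  have h3 : frobenius A p = (relFrob p k A).comp (algebraMap A (A ⊗[k] Twist p k)) := by
    refine RingHom.ext fun a => ?_
    change a ^ p = relFrob p k A (a ⊗ₜ[k] (1 : Twist p k))
    rw [Groth.Agent.Lib.Helper16.RelFrob.relFrob_tmul, map_one, map_one, mul_one]
  rw [h3]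
  exact RingHom.Flat.comp h2 h1

/-- Frobenius induces the identity on the prime spectrum. -/
theorem comap_frobenius (p : ℕ) [Fact p.Prime] (A : Type u) [CommRing A] [CharP A p]
    (q : PrimeSpectrum A) : PrimeSpectrum.comap (frobenius A p) q = q := by
  have hp : p.Prime := Fact.out
  ext a
  change a ^ p ∈ q.asIdeal ↔ a ∈ q.asIdeal
  exact ⟨fun h => q.isPrime.mem_of_pow_mem p h, fun h => Ideal.pow_mem_of_mem _ h p hp.pos⟩

/-- Frobenius of a smooth algebra over a field of characteristic `p` is faithfully flat. -/
theorem faithfullyFlat_frobenius_of_smooth (p : ℕ) [Fact p.Prime]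
    (k : Type u) [Field k] [CharP k p] (A : Type u) [CommRing A] [Algebra k A]
    [CharP A p] [Algebra.Smooth k A] : (frobenius A p).FaithfullyFlat := by
  rw [RingHom.FaithfullyFlat.iff_flat_and_comap_surjective]
  exact ⟨flat_frobenius_of_smooth p k A, fun q => ⟨q, comap_frobenius p A q⟩⟩

end Groth.Agent.Lib.Helper16.QuietFrob
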