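import Mathlib
import Groth.Agent.Lib.Helper16.Quiet.Main

/-!
# Cobase change of a ring map along a quotient; regular sequences and faithfully flat maps
(helper16)
-/

set_option autoImplicit false
set_option linter.style.haveILetI false
set_option linter.unusedSectionVars false

namespace Groth.Agent.Lib.Helper16.QuietFrob

open CategoryTheory Limits AlgebraicGeometry Quiet RingTheory.Sequence
  Groth.Agent.Lib.Helper7.QuietRing

universe u

/-- The map induced on quotients `R ⧸ I → S ⧸ I S` is the cobase change of `f : R → S` along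
`R → R ⧸ I`. -/
theorem isPushout_quotientMap {R S : Type u} [CommRing R] [CommRing S] (f : R →+* S)
    (I : Ideal R) :
    IsPushout (CommRingCat.ofHom f) (CommRingCat.ofHom (Ideal.Quotient.mk I))
      (CommRingCat.ofHom (Ideal.Quotient.mk (I.map f)))
      (CommRingCat.ofHom (Ideal.quotientMap (I.map f) f Ideal.le_comap_map)) := by
  refine ⟨⟨?_⟩, ⟨PushoutCocone.isColimitAux' _ (fun s => ?_)⟩⟩
  · ext x
    simp
  · have hs : ∀ x : R, s.inl.hom (f x) = s.inr.hom (Ideal.Quotient.mk I x) :=
      fun x => congr($(s.condition).hom x)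
    have hker : ∀ a ∈ I.map f, s.inl.hom a = 0 := by
      intro a ha
      have hle : I.map f ≤ RingHom.ker s.inl.hom := by
        rw [Ideal.map_le_iff_le_comap]
        intro x hx
        change s.inl.hom (f x) = 0
        rw [hs, Ideal.Quotient.eq_zero_iff_mem.mpr hx, map_zero]
      exact hle ha
    refine ⟨CommRingCat.ofHom (Ideal.Quotient.lift (I.map f) s.inl.hom hker), ?_, ?_, ?_⟩
    · apply CommRingCat.hom_ext
      refine RingHom.ext fun x => ?_
      exact Ideal.Quotient.lift_mk (I.map f) s.inl.hom hker
    · apply CommRingCat.hom_ext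
      apply Ideal.Quotient.ringHom_ext
      refine RingHom.ext fun x => ?_
      change Ideal.Quotient.lift (I.map f) s.inl.hom hker
        (Ideal.quotientMap (I.map f) f Ideal.le_comap_map (Ideal.Quotient.mk I x)) =
        s.inr.hom (Ideal.Quotient.mk I x)
      rw [Ideal.quotientMap_mk, Ideal.Quotient.lift_mk, hs]
    · intro m h1 _
      have h1' : ∀ x : S, m.hom (Ideal.Quotient.mk (I.map f) x) = s.inl.hom x :=
        fun x => congr($(h1).hom x)
      apply CommRingCat.hom_ext
      apply Ideal.Quotient.ringHom_ext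
      refine RingHom.ext fun x => ?_
      change m.hom (Ideal.Quotient.mk (I.map f) x) =
        Ideal.Quotient.lift (I.map f) s.inl.hom hker (Ideal.Quotient.mk (I.map f) x)
      rw [h1', Ideal.Quotient.lift_mk]

/-- Faithful flatness passes to quotients `R ⧸ I → S ⧸ I S`. -/
theorem faithfullyFlat_quotientMap {R S : Type u} [CommRing R] [CommRing S] (f : R →+* S)
    (hf : f.FaithfullyFlat) (I : Ideal R) :
    (Ideal.quotientMap (I.map f) f Ideal.le_comap_map).FaithfullyFlat := by
  have hst : (RingHom.toMorphismProperty @RingHom.FaithfullyFlat.{u, u}).IsStableUnderCobaseChange :=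
    RingHom.isStableUnderCobaseChange_toMorphismProperty_iff.mpr
      RingHom.FaithfullyFlat.isStableUnderBaseChange
  exact hst.of_isPushout (isPushout_quotientMap f I).flip hf

/-- Extractions of `p`-th roots pass to quotients `R ⧸ I → S ⧸ I S`. -/
theorem isPthRoot_quotientMap {p : ℕ} {R S : Type u} [CommRing R] [CommRing S] (f : R →+* S)
    (hf : IsPthRoot p (Spec.map (CommRingCat.ofHom f))) (I : Ideal R) :
    IsPthRoot p (Spec.map (CommRingCat.ofHom
      (Ideal.quotientMap (I.map f) f Ideal.le_comap_map))) :=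
  IsPthRoot.of_isPullback
    (isPullback_SpecMap_of_isPushout _ _ _ _ (isPushout_quotientMap f I)) hf

/-- Regular sequences map to regular sequences under faithfully flat ring maps. -/
theorem isRegular_map_of_faithfullyFlat {R S : Type*} [CommRing R] [CommRing S] (f : R →+* S)
    (hf : f.FaithfullyFlat) {rs : List R} (reg : IsRegular R rs) : IsRegular S (rs.map f) := by
  algebraize [f]
  exact reg.of_faithfullyFlat

/-- Concatenating a regular sequence with one that is regular on the quotient. -/
theorem isRegular_append_of_quotient {R : Type*} [CommRing R] (l₁ l₂ : List R) (J : Ideal R)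
    (hJ : Ideal.ofList l₁ = J) (h₁ : IsRegular R l₁)
    (h₂ : IsRegular (R ⧸ J) (l₂.map (Ideal.Quotient.mk J))) : IsRegular R (l₁ ++ l₂) := by
  subst hJ
  refine ⟨(isWeaklyRegular_append_iff R l₁ l₂).mpr ⟨h₁.1, ?_⟩, ?_⟩
  · have h3 : IsWeaklyRegular (R ⧸ Ideal.ofList l₁) l₂ :=
      (isWeaklyRegular_map_algebraMap_iff (R ⧸ Ideal.ofList l₁) (R ⧸ Ideal.ofList l₁) l₂).mp h₂.1
    have heq : (Ideal.ofList l₁ : Submodule R R) = (Ideal.ofList l₁ • ⊤ : Submodule R R) := by
      rw [smul_eq_mul, Ideal.mul_top]
    exact ((Submodule.quotEquivOfEq _ _ heq).isWeaklyRegular_congr l₂).mp h3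
  · intro htop
    apply h₂.2
    rw [smul_eq_mul, Ideal.mul_top] at htop ⊢
    rw [← Ideal.map_ofList, eq_comm, eq_top_iff, ← Ideal.map_top (Ideal.Quotient.mk _), htop,
      Ideal.ofList_append, Ideal.map_sup, Ideal.map_quotient_self, bot_sup_eq]

end Groth.Agent.Lib.Helper16.QuietFrob
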